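import Groth.Agent.MultTori.K441.Defs
import Mathlib.FieldTheory.Galois.Basic
import Mathlib.FieldTheory.Galois.IsGaloisGroup
import Mathlib.FieldTheory.PurelyInseparable.Exponent
import Mathlib.FieldTheory.PurelyInseparable.PerfectClosure
import Mathlib.FieldTheory.SeparableClosure
import Mathlib.RingTheory.Trace.Basic

/-!
# Restriction of scalars for systems of projective coordinates

`projCoord_restrict`: a system of projective coordinates `G → ℙ(F)` (with translations and multiplications given by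
forms) gives one over a subfield `F₀` with `F / F₀` finite: the product of the conjugates in the separable case, the
power by a power of the characteristic in the purely inseparable case, followed by Galois descent of the coordinates.
-/

set_option autoImplicit false

universe u v w

open Groth.Agent.MultTori.K441

namespace K949.ProjRes

section Poly

variable {R : Type u} [CommRing R] {I : Type v}

/-- Values of a form of degree `a` as sums of products of `a` coordinates. -/
theorem exists_rep {a : ℕ} {g : MvPolynomial I R} (hg : g.IsHomogeneous a) [Fintype I] [DecidableEq I] :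
    ∃ c : (Fin a → I) → R, ∀ v : I → R, MvPolynomial.eval v g = ∑ ι, c ι * ∏ t, v (ι t) := by
  classical
  -- closure under sums
  have key : ∀ d : I →₀ ℕ, d.degree = a → ∃ ι : Fin a → I, ∀ v : I → R, (d.prod fun i n => v i ^ n) = ∏ t, v (ι t) := by
    clear hg g
    induction a with
    | zero =>
      intro d hd
      have h0 : d = 0 := (Finsupp.degree_eq_zero_iff d).mp hd
      subst h0
      exact ⟨Fin.elim0, fun v => by simp⟩
    | succ a ih =>
      intro d hd
      have hne : d ≠ 0 := by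
        rintro rfl
        simp at hd
      obtain ⟨i, hi⟩ := Finsupp.ne_iff.mp hne
      have hi1 : 1 ≤ d i := Nat.one_le_iff_ne_zero.mpr (by simpa using hi)
      have hle : Finsupp.single i 1 ≤ d := by
        simpa using hi1
      obtain ⟨d', rfl⟩ := le_iff_exists_add.mp hle
      have hd' : d'.degree = a := by
        have : (Finsupp.single i 1 + d').degree = 1 + d'.degree := by
          rw [map_add, Finsupp.degree_single]
        omega
      obtain ⟨ι, hι⟩ := ih d' hd'
      refine ⟨Fin.cons i ι, fun v => ?_⟩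
      rw [Finsupp.prod_add_index' (by simp) (by intros; rw [pow_add]), Fin.prod_univ_succ, hι]
      simp
  rcases isEmpty_or_nonempty (Fin a → I) with hemp | hnon
  · have hg0 : g = 0 := by
      by_contra hcon
      obtain ⟨d, hd⟩ := MvPolynomial.ne_zero_iff.mp hcon
      obtain ⟨ι, -⟩ := key d (by
        by_contra hcon'
        exact hd (hg.coeff_eq_zero hcon'))
      exact hemp.false ι
    exact ⟨0, fun v => by simp [hg0]⟩
  choose! ι hι using key
  refine ⟨fun κ => ∑ d ∈ g.support.filter (fun d => ι d = κ), g.coeff d, fun v => ?_⟩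
  rw [MvPolynomial.eval_eq]
  simp_rw [Finset.sum_mul]
  rw [← Finset.sum_fiberwise (s := g.support) (g := ι)]
  refine Finset.sum_congr rfl fun κ _ => Finset.sum_congr rfl fun d hd => ?_
  rw [Finset.mem_filter] at hd
  have hdeg : d.degree = a := by
    by_contra hcon
    exact (MvPolynomial.mem_support_iff.mp hd.1) (hg.coeff_eq_zero hcon)
  rw [← hd.2, ← hι d hdeg v]
  congr 1

/-- Forms of the same degree in separate sets of variables: their product is a form in the Segre coordinates. -/
theorem segre {k a : ℕ} [Fintype I] [DecidableEq I] (g : Fin k → MvPolynomial I R)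
    (hg : ∀ s, (g s).IsHomogeneous a) :
    ∃ Φ : MvPolynomial (Fin k → I) R, Φ.IsHomogeneous a ∧ ∀ v : Fin k → I → R,
      MvPolynomial.eval (fun J => ∏ s, v s (J s)) Φ = ∏ s, MvPolynomial.eval (v s) (g s) := by
  classical
  choose c hc using fun s => exists_rep (hg s)
  refine ⟨∑ κ : Fin k → Fin a → I, MvPolynomial.C (∏ s, c s (κ s)) *
    ∏ t : Fin a, MvPolynomial.X (fun s => κ s t), ?_, fun v => ?_⟩
  · refine MvPolynomial.IsHomogeneous.sum _ _ _ fun κ _ => MvPolynomial.IsHomogeneous.C_mul ?_ _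
    have := MvPolynomial.IsHomogeneous.prod (R := R) (Finset.univ : Finset (Fin a))
      (fun t => (MvPolynomial.X (fun s => κ s t) : MvPolynomial (Fin k → I) R)) (fun _ => 1)
      (fun t _ => MvPolynomial.isHomogeneous_X _ _)
    simpa using this
  · rw [Finset.prod_congr rfl fun s _ => hc s (v s), Finset.prod_univ_sum]
    rw [Fintype.piFinset_univ, map_sum]
    refine Finset.sum_congr rfl fun κ _ => ?_
    rw [map_mul, MvPolynomial.eval_C, map_prod, Finset.prod_mul_distrib]
    congr 1
    simp_rw [MvPolynomial.eval_X]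
    rw [Finset.prod_comm]

/-- A form of large degree is in the ideal of the powers of the variables. -/
theorem pigeon [Fintype I] [Nonempty I] {φ : MvPolynomial I R} {N' N : ℕ} (hφ : φ.IsHomogeneous N')
    (hN : Fintype.card I * N ≤ N') :
    ∃ h : I → MvPolynomial I R, (∀ i, (h i).IsHomogeneous (N' - N)) ∧
      φ = ∑ i, h i * MvPolynomial.X i ^ N := by
  classical
  have key : ∀ d : I →₀ ℕ, d.degree = N' → ∃ i, N ≤ d i := by
    intro d hd
    by_contra! hcon
    have h1 : ∑ i, d i < Fintype.card I * N := by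
      calc ∑ i, d i < ∑ _i : I, N := Finset.sum_lt_sum_of_nonempty Finset.univ_nonempty fun i _ => hcon i
        _ = Fintype.card I * N := by simp
    rw [Finsupp.degree_eq_sum] at hd
    omega
  choose! ch hch using key
  have hsupp : ∀ d ∈ φ.support, d.degree = N' := fun d hd => by
    by_contra hcon
    exact (MvPolynomial.mem_support_iff.mp hd) (hφ.coeff_eq_zero hcon)
  refine ⟨fun i => ∑ d ∈ φ.support.filter (fun d => ch d = i),
    MvPolynomial.monomial (d - Finsupp.single i N) (φ.coeff d), fun i => ?_, ?_⟩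
  · refine MvPolynomial.IsHomogeneous.sum _ _ _ fun d hd => MvPolynomial.isHomogeneous_monomial _ ?_
    rw [Finset.mem_filter] at hd
    have h1 : N ≤ d i := by
      rw [← hd.2]
      exact hch d (hsupp d hd.1)
    have h2 : (d - Finsupp.single i N) + Finsupp.single i N = d := tsub_add_cancel_of_le (by simpa using h1)
    have h3 := congrArg Finsupp.degree h2
    rw [map_add, Finsupp.degree_single, hsupp d hd.1] at h3
    omega
  · conv_lhs => rw [φ.as_sum]
    rw [← Finset.sum_fiberwise (s := φ.support) (g := ch)]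
    refine Finset.sum_congr rfl fun i _ => ?_
    rw [Finset.sum_mul]
    refine Finset.sum_congr rfl fun d hd => ?_
    rw [Finset.mem_filter] at hd
    have h1 : N ≤ d i := by
      rw [← hd.2]
      exact hch d (hsupp d hd.1)
    rw [MvPolynomial.X_pow_eq_monomial, MvPolynomial.monomial_mul, mul_one,
      tsub_add_cancel_of_le (by simpa using h1)]

/-- A linear map applied to the coefficients of a polynomial. -/
noncomputable def piPoly {F₀ : Type w} [Field F₀] {E : Type u} [Field E] [Algebra F₀ E] (π : E →ₗ[F₀] F₀)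
    {L : Type} (g : MvPolynomial L E) : MvPolynomial L F₀ :=
  ∑ d ∈ g.support, MvPolynomial.monomial d (π (g.coeff d))

theorem piPoly_homog {F₀ : Type w} [Field F₀] {E : Type u} [Field E] [Algebra F₀ E] (π : E →ₗ[F₀] F₀)
    {L : Type} {g : MvPolynomial L E} {a : ℕ} (hg : g.IsHomogeneous a) : (piPoly π g).IsHomogeneous a := by
  refine MvPolynomial.IsHomogeneous.sum _ _ _ fun d hd => MvPolynomial.isHomogeneous_monomial _ ?_
  by_contra hcon
  exact (MvPolynomial.mem_support_iff.mp hd) (hg.coeff_eq_zero hcon)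

theorem eval_piPoly {F₀ : Type w} [Field F₀] {E : Type u} [Field E] [Algebra F₀ E] (π : E →ₗ[F₀] F₀)
    {L : Type} (g : MvPolynomial L E) (v : L → F₀) :
    MvPolynomial.eval v (piPoly π g) = π (MvPolynomial.eval (fun l => algebraMap F₀ E (v l)) g) := by
  rw [piPoly, map_sum, MvPolynomial.eval_eq, map_sum]
  refine Finset.sum_congr rfl fun d _ => ?_
  rw [MvPolynomial.eval_monomial]
  have h1 : (∏ i ∈ d.support, (algebraMap F₀ E (v i)) ^ d i) = algebraMap F₀ E (∏ i ∈ d.support, v i ^ d i) := by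
    rw [map_prod]
    simp_rw [map_pow]
  rw [h1, mul_comm (g.coeff d), ← Algebra.smul_def, map_smul, smul_eq_mul, mul_comm]
  rfl

/-- Substitution of linear forms. -/
noncomputable def lin {E : Type u} [Field E] {I L : Type} [Fintype L] (B : I → L → E) (g : MvPolynomial I E) :
    MvPolynomial L E :=
  MvPolynomial.bind₁ (fun i => ∑ l, MvPolynomial.C (B i l) * MvPolynomial.X l) g

theorem lin_homog {E : Type u} [Field E] {I L : Type} [Fintype L] (B : I → L → E) {g : MvPolynomial I E}
    {a : ℕ} (hg : g.IsHomogeneous a) : (lin B g).IsHomogeneous a := by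
  have := hg.aeval (S := E) (fun i => ∑ l, MvPolynomial.C (B i l) * MvPolynomial.X l) (n := 1)
    (fun i => MvPolynomial.IsHomogeneous.sum _ _ _ fun l _ => MvPolynomial.isHomogeneous_C_mul_X _ _)
  rw [one_mul] at this
  exact this

theorem eval_lin {E : Type u} [Field E] {I L : Type} [Fintype L] (B : I → L → E) (g : MvPolynomial I E)
    (X : L → E) : MvPolynomial.eval X (lin B g) = MvPolynomial.eval (fun i => ∑ l, B i l * X l) g := by
  rw [lin]
  have := MvPolynomial.eval₂Hom_bind₁ (RingHom.id E) X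
    (fun i => ∑ l, MvPolynomial.C (B i l) * MvPolynomial.X l) g
  have h2 : (MvPolynomial.eval₂Hom (RingHom.id E) X) = MvPolynomial.eval X := rfl
  rw [h2] at this
  rw [this]
  have h3 : (fun i => (MvPolynomial.eval X) (∑ l, MvPolynomial.C (B i l) * MvPolynomial.X l)) =
      fun i => ∑ l, B i l * X l := by
    funext i
    simp
  rw [h3]
  rfl

end Poly

/-- Projective coordinates over an extension `E` of `F₀` with scalars in `F₀`. -/
structure TCoord (F₀ : Type w) [Field F₀] (E : Type u) [Field E] [Algebra F₀ E] (G : Type v) [CommGroup G] where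
  I : Type
  [fintype : Fintype I]
  T : G → I → E
  ne : ∀ x, T x ≠ 0
  inj : ∀ x y (c : F₀), T y = c • T x → x = y
  a : ℕ
  add : ∀ y : G, ∃ (J : Type) (_ : Finite J) (f : J → I → MvPolynomial I E),
    (∀ j i, (f j i).IsHomogeneous a) ∧
      ∀ x, ∃ j, ∃ c : F₀, c ≠ 0 ∧ ev (f j) (T x) = c • T (x * y)
  m0 : ℕ
  mul : ∀ m, m0 ≤ m → ∃ (N : ℕ) (F : I → MvPolynomial I E) (b : I → I → MvPolynomial I E), m ^ 2 ≤ N ∧
    (∀ i, (F i).IsHomogeneous (m ^ 2)) ∧ (∀ i j, (b i j).IsHomogeneous (N - m ^ 2)) ∧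
    (∀ x i, T x i ^ N = ∑ j, MvPolynomial.eval (T x) (b i j) * MvPolynomial.eval (T x) (F j)) ∧
    ∀ x, ∃ c : F₀, c ≠ 0 ∧ ev F (T x) = c • T (x ^ m)

attribute [instance] TCoord.fintype

theorem TCoord.descend {F₀ : Type w} [Field F₀] {E : Type u} [Field E] [Algebra F₀ E] {G : Type v} [CommGroup G]
    (C : TCoord F₀ E G) (L : Type) [Fintype L] (X : G → L → F₀) (A : L → C.I → E) (B : C.I → L → E)
    (hA : ∀ x l, algebraMap F₀ E (X x l) = ∑ i, A l i * C.T x i)
    (hB : ∀ x i, C.T x i = ∑ l, B i l * algebraMap F₀ E (X x l)) : Nonempty (ProjCoord F₀ G) := by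
  classical
  -- a retraction
  obtain ⟨π, hπ⟩ := (Algebra.linearMap F₀ E).exists_leftInverse_of_injective
    (LinearMap.ker_eq_bot.mpr (algebraMap F₀ E).injective)
  have hπ' : ∀ z : F₀, π (algebraMap F₀ E z) = z := fun z => LinearMap.congr_fun hπ z
  have hTX : ∀ x, (fun i => ∑ l, B i l * algebraMap F₀ E (X x l)) = C.T x := fun x => by
    funext i
    rw [hB]
  have hne : ∀ x, X x ≠ 0 := by
    intro x h0
    apply C.ne x
    funext i
    rw [hB, h0]
    simp
  have hI : Nonempty C.I := by
    obtain ⟨i, -⟩ := Function.ne_iff.mp (C.ne 1)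
    exact ⟨i⟩
  -- transport of a tuple of forms
  have trans : ∀ (f : C.I → MvPolynomial C.I E) (x y : G) (c : F₀), ev f (C.T x) = c • C.T y →
      ev (fun l => piPoly π (∑ i, MvPolynomial.C (A l i) * lin B (f i))) (X x) = c • X y := by
    intro f x y c h
    funext l
    have h1 : ∀ i, MvPolynomial.eval (C.T x) (f i) = algebraMap F₀ E c * C.T y i := fun i => by
      have := congrFun h i
      simp only [ev, Pi.smul_apply, Algebra.smul_def] at this
      exact this
    simp only [ev, eval_piPoly, map_sum, map_mul, MvPolynomial.eval_C, eval_lin, hTX, h1, Pi.smul_apply, smul_eq_mul]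
    rw [← map_sum]
    have h2 : ∑ i, A l i * (algebraMap F₀ E c * C.T y i) = algebraMap F₀ E (c * X y l) := by
      rw [map_mul, hA, Finset.mul_sum]
      refine Finset.sum_congr rfl fun i _ => ?_
      ring
    rw [h2, hπ']
  have transh : ∀ (f : C.I → MvPolynomial C.I E) (a : ℕ), (∀ i, (f i).IsHomogeneous a) → ∀ l,
      (piPoly π (∑ i, MvPolynomial.C (A l i) * lin B (f i))).IsHomogeneous a := by
    intro f a hf l
    refine piPoly_homog π (MvPolynomial.IsHomogeneous.sum _ _ _ fun i _ => ?_)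
    exact (lin_homog B (hf i)).C_mul _
  refine ⟨{ I := L, P := X, ne := hne, inj := ?_, a := C.a, add := ?_, m0 := C.m0, mul := ?_ }⟩
  · intro x y c h
    refine C.inj x y c ?_
    funext i
    rw [Pi.smul_apply, hB, hB, Finset.smul_sum]
    refine Finset.sum_congr rfl fun l _ => ?_
    rw [h, Pi.smul_apply, smul_eq_mul, map_mul, Algebra.smul_def]
    ring
  · intro y
    obtain ⟨J, hJ, f, hf, h⟩ := C.add y
    refine ⟨J, hJ, fun j l => piPoly π (∑ i, MvPolynomial.C (A l i) * lin B (f j i)), fun j l =>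
      transh _ _ (hf j) l, fun x => ?_⟩
    obtain ⟨j, c, hc, h1⟩ := h x
    exact ⟨j, c, hc, trans (f j) x (x * y) c h1⟩
  · intro m hm
    obtain ⟨N, F, b, hmN, hF, hb, hN, h⟩ := C.mul m hm
    set N' : ℕ := Fintype.card C.I * N with hN'
    have hcard : 1 ≤ Fintype.card C.I := Fintype.card_pos
    have hNN' : N ≤ N' := by
      rw [hN']
      exact Nat.le_mul_of_pos_left _ hcard
    -- the powers of the linear forms
    have hpig : ∀ l, ∃ g : C.I → MvPolynomial C.I E, (∀ i, (g i).IsHomogeneous (N' - N)) ∧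
        (∑ i, MvPolynomial.C (A l i) * MvPolynomial.X i) ^ N' = ∑ i, g i * MvPolynomial.X i ^ N := by
      intro l
      refine pigeon ?_ le_rfl
      have h1 : (∑ i, MvPolynomial.C (A l i) * MvPolynomial.X i : MvPolynomial C.I E).IsHomogeneous 1 :=
        MvPolynomial.IsHomogeneous.sum _ _ _ fun i _ => MvPolynomial.isHomogeneous_C_mul_X _ _
      simpa using h1.pow N'
    choose g hg hg' using hpig
    refine ⟨N', fun l => piPoly π (∑ i, MvPolynomial.C (A l i) * lin B (F i)),
      fun l l' => piPoly π (∑ i, ∑ j, MvPolynomial.C (B j l') * lin B (g l i * b i j)), hmN.trans hNN',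
      fun l => transh _ _ hF l, fun l l' => ?_, fun x l => ?_, fun x => ?_⟩
    · refine piPoly_homog π (MvPolynomial.IsHomogeneous.sum _ _ _ fun i _ =>
        MvPolynomial.IsHomogeneous.sum _ _ _ fun j _ => ?_)
      have h1 := (hg l i).mul (hb i j)
      have h2 : N' - N + (N - m ^ 2) = N' - m ^ 2 := by omega
      rw [h2] at h1
      exact (lin_homog B h1).C_mul _
    · obtain ⟨c, hc, h1⟩ := h x
      have htr := trans F x (x ^ m) c h1
      have h3 : ∀ j, MvPolynomial.eval (C.T x) (F j) = ∑ l', B j l' * algebraMap F₀ E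
          (MvPolynomial.eval (X x) (piPoly π (∑ i, MvPolynomial.C (A l' i) * lin B (F i)))) := by
        intro j
        have h4 : MvPolynomial.eval (C.T x) (F j) = algebraMap F₀ E c * C.T (x ^ m) j := by
          have := congrFun h1 j
          simp only [ev, Pi.smul_apply, Algebra.smul_def] at this
          exact this
        rw [h4, hB, Finset.mul_sum]
        refine Finset.sum_congr rfl fun l' _ => ?_
        have h5 := congrFun htr l'
        simp only [ev, Pi.smul_apply, smul_eq_mul] at h5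
        rw [h5, map_mul]
        ring
      have h6 : algebraMap F₀ E (X x l ^ N') = ∑ l', (∑ i, ∑ j, B j l' *
          (MvPolynomial.eval (C.T x) (g l i) * MvPolynomial.eval (C.T x) (b i j))) *
          algebraMap F₀ E (MvPolynomial.eval (X x) (piPoly π (∑ i, MvPolynomial.C (A l' i) * lin B (F i)))) := by
        have h7 := congrArg (MvPolynomial.eval (C.T x)) (hg' l)
        simp only [map_pow, map_sum, map_mul, MvPolynomial.eval_C, MvPolynomial.eval_X] at h7
        rw [map_pow, hA, h7]
        simp_rw [Finset.sum_mul]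
        rw [Finset.sum_comm]
        refine Finset.sum_congr rfl fun i _ => ?_
        rw [hN x i, Finset.mul_sum, Finset.sum_comm]
        refine Finset.sum_congr rfl fun j _ => ?_
        rw [h3 j, Finset.mul_sum, Finset.mul_sum]
        refine Finset.sum_congr rfl fun l' _ => ?_
        ring
      have h8 := congrArg π h6
      rw [hπ', map_sum] at h8
      rw [h8]
      refine Finset.sum_congr rfl fun l' _ => ?_
      rw [mul_comm, ← Algebra.smul_def, map_smul, smul_eq_mul, mul_comm]
      congr 1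
      rw [eval_piPoly]
      congr 1
      simp only [map_sum, map_mul, MvPolynomial.eval_C, eval_lin, hTX]
    · obtain ⟨c, hc, h1⟩ := h x
      exact ⟨c, hc, trans F x (x ^ m) c h1⟩

/-- The purely inseparable case. -/
theorem insep (F₀ F : Type u) [Field F₀] [Field F] [Algebra F₀ F] [FiniteDimensional F₀ F]
    [IsPurelyInseparable F₀ F] (G : Type v) [CommGroup G] (P : ProjCoord F G) : Nonempty (ProjCoord F₀ G) := by
  classical
  obtain ⟨p, hp⟩ := ExpChar.exists F₀
  have hp' : ExpChar F p := expChar_of_injective_algebraMap (algebraMap F₀ F).injective p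
  -- an exponent
  obtain ⟨n, hn⟩ : ∃ n : ℕ, ∀ z : F, ∃ w : F₀, algebraMap F₀ F w = z ^ p ^ n :=
    ⟨IsPurelyInseparable.exponent F₀ F, fun z => IsPurelyInseparable.exponent_def' F₀ p z⟩
  set φ : F →+* F := iterateFrobenius F p n with hφ
  have hφ' : ∀ z, φ z = z ^ p ^ n := fun z => iterateFrobenius_def p n z
  have hφinj : Function.Injective φ := φ.injective
  choose r hr using hn
  have hev : ∀ (f : MvPolynomial P.I F) (v : P.I → F),
      MvPolynomial.eval (fun i => φ (v i)) (MvPolynomial.map φ f) = φ (MvPolynomial.eval v f) := by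
    intro f v
    rw [MvPolynomial.eval_map]
    exact (MvPolynomial.eval₂_comp_left φ (RingHom.id F) v f).symm
  have hsc : ∀ c : F, c ≠ 0 → r c ≠ 0 := by
    intro c hc h0
    have := hr c
    rw [h0, map_zero] at this
    exact hc (eq_zero_of_pow_eq_zero this.symm)
  have htr : ∀ (f : P.I → MvPolynomial P.I F) (x y : G) (c : F), ev f (P.P x) = c • P.P y →
      ev (fun i => MvPolynomial.map φ (f i)) (fun i => φ (P.P x i)) = r c • fun i => φ (P.P y i) := by
    intro f x y c h
    funext i
    have h1 := congrFun h i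
    simp only [ev, Pi.smul_apply, smul_eq_mul] at h1 ⊢
    rw [hev, h1, Algebra.smul_def, hr, ← hφ', map_mul]
  have hne : ∀ x : G, (fun i => φ (P.P x i)) ≠ 0 := by
    intro x h0
    apply P.ne x
    funext i
    have := congrFun h0 i
    simpa using this
  have hinj : ∀ (x y : G) (c : F₀), ((fun i => φ (P.P y i)) = c • fun i => φ (P.P x i)) → x = y := by
    intro x y c h
    obtain ⟨i₀, hi₀⟩ := Function.ne_iff.mp (P.ne x)
    refine P.inj x y (P.P y i₀ / P.P x i₀) ?_
    funext i
    apply hφinj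
    have h1 := congrFun h i
    have h2 := congrFun h i₀
    simp only [Pi.smul_apply, Algebra.smul_def] at h1 h2
    rw [Pi.smul_apply, smul_eq_mul, map_mul, map_div₀, h1, h2]
    have h3 : φ (P.P x i₀) ≠ 0 := (map_ne_zero φ).mpr hi₀
    field_simp
  have hadd : ∀ y : G, ∃ (J : Type) (_ : Finite J) (f : J → P.I → MvPolynomial P.I F),
    (∀ j i, (f j i).IsHomogeneous P.a) ∧
      ∀ x, ∃ j, ∃ c : F₀, c ≠ 0 ∧ ev (f j) (fun i => φ (P.P x i)) = c • fun i => φ (P.P (x * y) i) := by
    intro y
    obtain ⟨J, hJ, f, hf, h⟩ := P.add y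
    refine ⟨J, hJ, fun j i => MvPolynomial.map φ (f j i), fun j i => (hf j i).map φ, fun x => ?_⟩
    obtain ⟨j, c, hc, h1⟩ := h x
    exact ⟨j, r c, hsc c hc, htr (f j) x (x * y) c h1⟩
  have hmul : ∀ m, P.m0 ≤ m → ∃ (N : ℕ) (F' : P.I → MvPolynomial P.I F) (b : P.I → P.I → MvPolynomial P.I F),
    m ^ 2 ≤ N ∧
    (∀ i, (F' i).IsHomogeneous (m ^ 2)) ∧ (∀ i j, (b i j).IsHomogeneous (N - m ^ 2)) ∧
    (∀ x i, (fun i => φ (P.P x i)) i ^ N = ∑ j, MvPolynomial.eval (fun i => φ (P.P x i)) (b i j) *
      MvPolynomial.eval (fun i => φ (P.P x i)) (F' j)) ∧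
    ∀ x, ∃ c : F₀, c ≠ 0 ∧ ev F' (fun i => φ (P.P x i)) = c • fun i => φ (P.P (x ^ m) i) := by
    intro m hm
    obtain ⟨N, F', b, hmN, hF, hb, hN, h⟩ := P.mul m hm
    refine ⟨N, fun i => MvPolynomial.map φ (F' i), fun i j => MvPolynomial.map φ (b i j), hmN,
      fun i => (hF i).map φ, fun i j => (hb i j).map φ, fun x i => ?_, fun x => ?_⟩
    · show (φ (P.P x i)) ^ N = _
      rw [← map_pow, hN x i, map_sum]
      refine Finset.sum_congr rfl fun j _ => ?_
      rw [map_mul, hev, hev]
    · obtain ⟨c, hc, h1⟩ := h x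
      exact ⟨r c, hsc c hc, htr F' x (x ^ m) c h1⟩
  refine TCoord.descend (F₀ := F₀) (E := F) (G := G)
    { I := P.I, T := fun x i => φ (P.P x i), ne := hne, inj := hinj, a := P.a, add := hadd, m0 := P.m0,
      mul := hmul } P.I (fun x i => r (P.P x i)) (fun i j => if i = j then 1 else 0)
      (fun i j => if i = j then 1 else 0) (fun x l => ?_) (fun x i => ?_)
  · simp [hr, hφ']
  · simp [hr, hφ']

/-- The separable case, over a finite Galois extension containing `F`. -/
theorem sepAux (F₀ F E : Type u) [Field F₀] [Field F] [Algebra F₀ F] [FiniteDimensional F₀ F] [Field E]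
    [Algebra F₀ E] [FiniteDimensional F₀ E] [IsGalois F₀ E] (ι₀ : F →ₐ[F₀] E) (G : Type v) [CommGroup G]
    (P : ProjCoord F G) : Nonempty (ProjCoord F₀ G) := by
  classical
  -- the embeddings
  let k : ℕ := Fintype.card (F →ₐ[F₀] E)
  let e : Fin k ≃ (F →ₐ[F₀] E) := (Fintype.equivFin _).symm
  let σ : Fin k → (F →ₐ[F₀] E) := fun s => e s
  let s₀ : Fin k := e.symm ι₀
  -- the action of the Galois group on the embeddings
  let perm : Gal(E/F₀) → Equiv.Perm (Fin k) := fun τ =>
    (e.trans (AlgEquiv.arrowCongr (AlgEquiv.refl : F ≃ₐ[F₀] F) τ)).trans e.symm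
  have hperm : ∀ (τ : Gal(E/F₀)) (s : Fin k) (z : F), τ (σ s z) = σ (perm τ s) z := by
    intro τ s z
    simp [σ, perm, AlgEquiv.arrowCongr_apply]
  -- the coordinates
  let T : G → (Fin k → P.I) → E := fun x J => ∏ s, σ s (P.P x (J s))
  have hτ : ∀ (τ : Gal(E/F₀)) (x : G) (J : Fin k → P.I), τ (T x J) = T x (J ∘ (perm τ).symm) := by
    intro τ x J
    simp only [T, map_prod]
    refine Fintype.prod_equiv (perm τ) _ _ fun s => ?_
    rw [hperm]
    simp
  have hnorm : ∀ c : F, c ≠ 0 → ∃ c₀ : F₀, c₀ ≠ 0 ∧ algebraMap F₀ E c₀ = ∏ s, σ s c := by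
    intro c hc
    obtain ⟨c₀, hc₀⟩ := (IsGalois.mem_range_algebraMap_iff_fixed (∏ s, σ s c)).mpr (by
      intro τ
      rw [map_prod, ← Equiv.prod_comp (perm τ) (fun s => σ s c)]
      exact Finset.prod_congr rfl fun s _ => hperm τ s c)
    refine ⟨c₀, ?_, hc₀⟩
    rintro rfl
    rw [map_zero] at hc₀
    have := Finset.prod_eq_zero_iff.mp hc₀.symm
    obtain ⟨s, -, hs⟩ := this
    exact hc ((map_eq_zero (σ s)).mp hs)
  have hev : ∀ (s : Fin k) (f : MvPolynomial P.I F) (v : P.I → F),
      MvPolynomial.eval (fun i => σ s (v i)) (MvPolynomial.map (σ s : F →+* E) f) = σ s (MvPolynomial.eval v f) := by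
    intro s f v
    rw [MvPolynomial.eval_map]
    exact (MvPolynomial.eval₂_comp_left (σ s : F →+* E) (RingHom.id F) v f).symm
  -- products of conjugate forms
  have hseg : ∀ (a : ℕ) (g : Fin k → MvPolynomial P.I F), (∀ s, (g s).IsHomogeneous a) →
      ∃ Φ : MvPolynomial (Fin k → P.I) E, Φ.IsHomogeneous a ∧ ∀ x : G,
        MvPolynomial.eval (T x) Φ = ∏ s, σ s (MvPolynomial.eval (P.P x) (g s)) := by
    intro a g hg
    obtain ⟨Φ, hΦ, h⟩ := segre (fun s => MvPolynomial.map (σ s : F →+* E) (g s)) (fun s => (hg s).map _)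
    refine ⟨Φ, hΦ, fun x => ?_⟩
    have := h (fun s i => σ s (P.P x i))
    rw [show T x = (fun J => ∏ s, σ s (P.P x (J s))) from rfl, this]
    exact Finset.prod_congr rfl fun s _ => hev s _ _
  choose Φ hΦ hΦ' using hseg
  have htr : ∀ (a : ℕ) (f : P.I → MvPolynomial P.I F) (hf : ∀ i, (f i).IsHomogeneous a) (x y : G) (c : F) (c₀ : F₀),
      algebraMap F₀ E c₀ = ∏ s, σ s c → ev f (P.P x) = c • P.P y →
      ev (fun J : Fin k → P.I => Φ a (fun s => f (J s)) (fun s => hf (J s))) (T x) = c₀ • T y := by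
    intro a f hf x y c c₀ hc₀ h
    funext J
    simp only [ev, Pi.smul_apply, Algebra.smul_def]
    rw [hΦ', hc₀]
    simp only [T]
    rw [← Finset.prod_mul_distrib]
    refine Finset.prod_congr rfl fun s _ => ?_
    have h1 := congrFun h (J s)
    simp only [ev, Pi.smul_apply, smul_eq_mul] at h1
    rw [h1, map_mul]
  have hne : ∀ x : G, T x ≠ 0 := by
    intro x h0
    obtain ⟨i₀, hi₀⟩ := Function.ne_iff.mp (P.ne x)
    have h1 := congrFun h0 (fun _ => i₀)
    obtain ⟨s, -, hs⟩ := Finset.prod_eq_zero_iff.mp h1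
    exact hi₀ ((map_eq_zero (σ s)).mp hs)
  have hinj : ∀ (x y : G) (c : F₀), T y = c • T x → x = y := by
    intro x y c h
    have hc : c ≠ 0 := by
      rintro rfl
      rw [zero_smul] at h
      exact hne y h
    have hc' : algebraMap F₀ E c ≠ 0 := (map_ne_zero _).mpr hc
    obtain ⟨i₀, hi₀⟩ := Function.ne_iff.mp (P.ne x)
    simp only [Pi.zero_apply] at hi₀
    -- the value at the diagonal point
    have h1 : ∀ i, ∏ s, σ s (P.P y ((Function.update (fun _ => i₀) s₀ i : Fin k → P.I) s)) =
        algebraMap F₀ E c * ∏ s, σ s (P.P x ((Function.update (fun _ => i₀) s₀ i : Fin k → P.I) s)) := by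
      intro i
      have := congrFun h (Function.update (fun _ => i₀) s₀ i)
      rw [Pi.smul_apply, Algebra.smul_def] at this
      exact this
    have h2 : ∀ (z : G) (i : P.I), ∏ s, σ s (P.P z ((Function.update (fun _ => i₀) s₀ i : Fin k → P.I) s)) =
        σ s₀ (P.P z i) * ∏ s ∈ Finset.univ.erase s₀, σ s (P.P z i₀) := by
      intro z i
      rw [← Finset.mul_prod_erase _ _ (Finset.mem_univ s₀)]
      congr 1
      · simp
      · refine Finset.prod_congr rfl fun s hs => ?_
        rw [Function.update_of_ne (Finset.ne_of_mem_erase hs)]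
    have h3 : ∀ i, σ s₀ (P.P y i) * ∏ s ∈ Finset.univ.erase s₀, σ s (P.P y i₀) =
        algebraMap F₀ E c * (σ s₀ (P.P x i) * ∏ s ∈ Finset.univ.erase s₀, σ s (P.P x i₀)) := by
      intro i
      rw [← h2, ← h2, h1]
    have hx : ∏ s ∈ Finset.univ.erase s₀, σ s (P.P x i₀) ≠ 0 :=
      Finset.prod_ne_zero_iff.mpr fun s _ => (map_ne_zero (σ s)).mpr hi₀
    have hx0 : σ s₀ (P.P x i₀) ≠ 0 := (map_ne_zero (σ s₀)).mpr hi₀
    have hyy : σ s₀ (P.P y i₀) * ∏ s ∈ Finset.univ.erase s₀, σ s (P.P y i₀) ≠ 0 := by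
      rw [h3]
      exact mul_ne_zero hc' (mul_ne_zero hx0 hx)
    have hy : ∏ s ∈ Finset.univ.erase s₀, σ s (P.P y i₀) ≠ 0 := right_ne_zero_of_mul hyy
    refine P.inj x y (P.P y i₀ / P.P x i₀) ?_
    funext i
    rw [Pi.smul_apply, smul_eq_mul, div_mul_eq_mul_div, eq_div_iff hi₀]
    apply (σ s₀ : F →+* E).injective
    simp only [RingHom.coe_coe, map_mul]
    have h4 := h3 i
    have h5 := h3 i₀
    set py := ∏ s ∈ Finset.univ.erase s₀, σ s (P.P y i₀)
    set px := ∏ s ∈ Finset.univ.erase s₀, σ s (P.P x i₀)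
    have h6 : py * (σ s₀ (P.P y i) * σ s₀ (P.P x i₀)) = py * (σ s₀ (P.P y i₀) * σ s₀ (P.P x i)) := by
      calc py * (σ s₀ (P.P y i) * σ s₀ (P.P x i₀)) = (σ s₀ (P.P y i) * py) * σ s₀ (P.P x i₀) := by ring
        _ = (algebraMap F₀ E c * (σ s₀ (P.P x i₀) * px)) * σ s₀ (P.P x i) := by rw [h4]; ring
        _ = py * (σ s₀ (P.P y i₀) * σ s₀ (P.P x i)) := by rw [← h5]; ring
    exact mul_left_cancel₀ hy h6
  have hadd : ∀ y : G, ∃ (J : Type) (_ : Finite J) (f : J → (Fin k → P.I) → MvPolynomial (Fin k → P.I) E),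
    (∀ j i, (f j i).IsHomogeneous P.a) ∧
      ∀ x, ∃ j, ∃ c : F₀, c ≠ 0 ∧ ev (f j) (T x) = c • T (x * y) := by
    intro y
    obtain ⟨J, hJ, f, hf, h⟩ := P.add y
    refine ⟨J, hJ, fun j K => Φ P.a (fun s => f j (K s)) (fun s => hf j (K s)), fun j K => hΦ _ _ _, fun x => ?_⟩
    obtain ⟨j, c, hc, h1⟩ := h x
    obtain ⟨c₀, hc₀, hcc⟩ := hnorm c hc
    exact ⟨j, c₀, hc₀, htr P.a (f j) (hf j) x (x * y) c c₀ hcc h1⟩
  have hmul : ∀ m, P.m0 ≤ m → ∃ (N : ℕ) (F' : (Fin k → P.I) → MvPolynomial (Fin k → P.I) E)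
      (b : (Fin k → P.I) → (Fin k → P.I) → MvPolynomial (Fin k → P.I) E),
    m ^ 2 ≤ N ∧
    (∀ i, (F' i).IsHomogeneous (m ^ 2)) ∧ (∀ i j, (b i j).IsHomogeneous (N - m ^ 2)) ∧
    (∀ x i, T x i ^ N = ∑ j, MvPolynomial.eval (T x) (b i j) * MvPolynomial.eval (T x) (F' j)) ∧
    ∀ x, ∃ c : F₀, c ≠ 0 ∧ ev F' (T x) = c • T (x ^ m) := by
    intro m hm
    obtain ⟨N, F', b, hmN, hF, hb, hN, h⟩ := P.mul m hm
    refine ⟨N, fun K => Φ (m ^ 2) (fun s => F' (K s)) (fun s => hF (K s)),
      fun K K' => Φ (N - m ^ 2) (fun s => b (K s) (K' s)) (fun s => hb (K s) (K' s)), hmN,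
      fun K => hΦ _ _ _, fun K K' => hΦ _ _ _, fun x K => ?_, fun x => ?_⟩
    · simp only [hΦ']
      have h1 : T x K ^ N = ∏ s, ∑ j, σ s (MvPolynomial.eval (P.P x) (b (K s) j)) *
          σ s (MvPolynomial.eval (P.P x) (F' j)) := by
        simp only [T]
        rw [← Finset.prod_pow]
        refine Finset.prod_congr rfl fun s _ => ?_
        rw [← map_pow, hN, map_sum]
        refine Finset.sum_congr rfl fun j _ => ?_
        rw [map_mul]
      rw [h1, Finset.prod_univ_sum, Fintype.piFinset_univ]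
      refine Finset.sum_congr rfl fun K' _ => ?_
      rw [Finset.prod_mul_distrib]
    · obtain ⟨c, hc, h1⟩ := h x
      obtain ⟨c₀, hc₀, hcc⟩ := hnorm c hc
      exact ⟨c₀, hc₀, htr (m ^ 2) F' hF x (x ^ m) c c₀ hcc h1⟩
  -- the descent
  let n := Module.finrank F₀ E
  let b : Module.Basis (Fin n) F₀ E := Module.finBasis F₀ E
  refine TCoord.descend (F₀ := F₀) (E := E) (G := G)
    { I := Fin k → P.I, T := T, ne := hne, inj := hinj, a := P.a, add := hadd, m0 := P.m0,
      mul := hmul } (Fin n × (Fin k → P.I)) (fun x l => b.traceDual.repr (T x l.2) l.1)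
      (fun l J => ∑ τ : Gal(E/F₀), if J = l.2 ∘ (perm τ).symm then τ (b l.1) else 0)
      (fun J l => if J = l.2 then b.traceDual l.1 else 0) (fun x l => ?_) (fun x J => ?_)
  · show algebraMap F₀ E (b.traceDual.repr (T x l.2) l.1) =
      ∑ J : Fin k → P.I, (∑ τ : Gal(E/F₀), if J = l.2 ∘ (perm τ).symm then τ (b l.1) else 0) * T x J
    rw [Module.Basis.traceDual_repr_apply, Algebra.traceForm_apply, trace_eq_sum_automorphisms]
    simp_rw [Finset.sum_mul]
    rw [Finset.sum_comm]
    refine Finset.sum_congr rfl fun τ _ => ?_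
    rw [map_mul, hτ]
    simp [mul_comm]
  · show T x J = ∑ l : Fin n × (Fin k → P.I), (if J = l.2 then b.traceDual l.1 else 0) *
      algebraMap F₀ E (b.traceDual.repr (T x l.2) l.1)
    rw [Fintype.sum_prod_type]
    conv_lhs => rw [← b.traceDual.sum_repr (T x J)]
    refine Finset.sum_congr rfl fun t _ => ?_
    simp [Algebra.smul_def, mul_comm]

/-- The separable case. -/
theorem sep (F₀ F : Type u) [Field F₀] [Field F] [Algebra F₀ F] [FiniteDimensional F₀ F]
    [Algebra.IsSeparable F₀ F] (G : Type v) [CommGroup G] (P : ProjCoord F G) : Nonempty (ProjCoord F₀ G) := by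
  let f : F →ₐ[F₀] SeparableClosure F₀ := IsSepClosed.lift
  have hg : IsGalois F₀ (IntermediateField.normalClosure F₀ F (SeparableClosure F₀)) :=
    { to_isSeparable := Algebra.isSeparable_tower_bot_of_isSeparable F₀ _ (SeparableClosure F₀) }
  exact sepAux F₀ F (IntermediateField.normalClosure F₀ F (SeparableClosure F₀))
    ((normalClosure.algHomEquiv F₀ F (SeparableClosure F₀)).symm f) G P

/-- A system of projective coordinates over a finite extension gives one over the field. -/
theorem projCoord_restrict (F₀ F : Type u) [Field F₀] [Field F] [Algebra F₀ F] [FiniteDimensional F₀ F]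
    (G : Type v) [CommGroup G] (P : ProjCoord F G) : Nonempty (ProjCoord F₀ G) := by
  obtain ⟨Q⟩ := insep (separableClosure F₀ F) F G P
  exact sep F₀ (separableClosure F₀ F) G Q

end K949.ProjRes
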